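/-
Kernel checks of the certificates for the smallest Janko group.
-/
import Cfsg.Agent.Lib.J1.Data2

set_option autoImplicit false
set_option maxRecDepth 100000

namespace CfsgLib.J1


def getM (l : List (List Mat)) (i : ℕ) : Mat := (l.getD (i / 22) []).getD (i % 22) one

def getN (l : List (List ℕ)) (i : ℕ) : ℕ := (l.getD (i / 22) []).getD (i % 22) 0

def lM (i : ℕ) : Mat := getM Llist i
def tM (i : ℕ) : Mat := getM Tlist i
def rM (i : ℕ) : Mat := reps.getD i one

def ordsAt : ℕ → List (List ℕ)
  | 0 => ords0
  | 1 => ords1
  | 2 => ords2
  | 3 => ords3
  | _ => ords4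

def stepCheck (i : ℕ) : Bool :=
  ok (lM i) && (decide (getN stepA i < 660) && (beq (mul (lM i) genA) (lM (getN stepA i)) &&
    (decide (getN stepB i < 660) && beq (mul (lM i) genB) (lM (getN stepB i)))))

def parCheck (i : ℕ) : Bool :=
  decide (i = 0) || (decide (getN parIdx i < i) &&
    beq (mul (lM (getN parIdx i)) (if getN parGen i = 0 then genA else genB)) (lM i))

def cosetCheck (t : ℕ) : Bool :=
  ok (tM t) && (decide (getN nextXT t < 266) && (decide (getN nextXL t < 660) &&
    (beq (mul (tM t) genX) (mul (lM (getN nextXL t)) (tM (getN nextXT t))) &&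
    (decide (getN nextYT t < 266) && (decide (getN nextYL t < 660) &&
    beq (mul (tM t) genY) (mul (lM (getN nextYL t)) (tM (getN nextYT t))))))))

def dcCheck (t : ℕ) : Bool :=
  decide (getN dcL t < 660) && (decide (getN dcRep t < 5) && (decide (getN dcR t < 660) &&
    beq (tM t) (mul (mul (lM (getN dcL t)) (rM (getN dcRep t))) (lM (getN dcR t)))))

def ordCheck (r k : ℕ) : Bool :=
  [6, 7, 10, 11, 15, 19].contains (getN (ordsAt r) k) && beq (pw (mul (lM k) (rM r)) (getN (ordsAt r) k)) one

theorem base_check : (ok genA && ok genB && ok genX && ok genY && beq (lM 0) one && beq (tM 0) one &&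
    beq (pw genA 2) one && beq (pw genB 3) one && (List.range 5).all (fun r => ok (rM r))) = true := by
  decide +kernel

theorem step_check : (List.range 660).all stepCheck = true := by decide +kernel
theorem par_check : (List.range 660).all parCheck = true := by decide +kernel
theorem coset_check : (List.range 266).all cosetCheck = true := by decide +kernel
theorem dc_check : (List.range 266).all dcCheck = true := by decide +kernel
theorem ord_check0 : (List.range 660).all (ordCheck 0) = true := by decide +kernel
theorem ord_check1 : (List.range 660).all (ordCheck 1) = true := by decide +kernel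
theorem ord_check2 : (List.range 660).all (ordCheck 2) = true := by decide +kernel
theorem ord_check3 : (List.range 660).all (ordCheck 3) = true := by decide +kernel
theorem ord_check4 : (List.range 660).all (ordCheck 4) = true := by decide +kernel


end CfsgLib.J1
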