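/-
The element orders of the smallest Janko group.
-/
import Cfsg.Prelude.Def_Spor_J1
import Cfsg.Agent.Lib.J1.Certs
import Mathlib.GroupTheory.OrderOfElement

set_option autoImplicit false
set_option maxRecDepth 100000

namespace CfsgLib.J1

open Cfsg.Spor

theorem jankoX_val : (jankoX : Matrix (Fin 7) (Fin 7) (ZMod 11)) = dec genX := by decide +kernel
theorem jankoY_val : (jankoY : Matrix (Fin 7) (Fin 7) (ZMod 11)) = dec genY := by decide +kernel

attribute [local irreducible] lM tM rM getN dec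

abbrev M7 := Matrix (Fin 7) (Fin 7) (ZMod 11)

theorem conj_eq {M : Type*} [Monoid M] {u u' a b d g : M} (hu : u * u' = 1) (hg : g = a * (b * d * u)) :
    u * g * u' = u * (a * b) * d := by
  rw [hg]
  simp only [mul_assoc, hu, mul_one]

theorem pow_eq_one_of_conj {M : Type*} [Monoid M] {u u' g : M} (h1 : u * u' = 1) (h2 : u' * u = 1) (n : ℕ)
    (h : (u * g * u') ^ n = 1) : g ^ n = 1 := by
  let U : Mˣ := ⟨u, u', h1, h2⟩
  have h3 : (u * g * u') ^ n = u * g ^ n * u' := Units.conj_pow U g n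
  rw [h] at h3
  calc g ^ n = u' * (u * g ^ n * u') * u := by
        rw [← mul_assoc, ← mul_assoc, h2, one_mul, mul_assoc, h2, mul_one]
    _ = 1 := by rw [← h3, mul_one, h2]

/-- The submonoid generated by the two generators of the subgroup. -/
def P : Submonoid M7 := Submonoid.closure {dec genA, dec genB}

theorem all_range {n : ℕ} {f : ℕ → Bool} (h : (List.range n).all f = true) {i : ℕ} (hi : i < n) : f i = true :=
  List.all_eq_true.1 h i (List.mem_range.2 hi)

theorem base : ok genA = true ∧ ok genB = true ∧ ok genX = true ∧ ok genY = true ∧ lM 0 = one ∧ tM 0 = one ∧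
    pw genA 2 = one ∧ pw genB 3 = one ∧ ∀ r < 5, ok (rM r) = true := by
  have h := base_check
  simp only [Bool.and_eq_true] at h
  obtain ⟨⟨⟨⟨⟨⟨⟨⟨h1, h2⟩, h3⟩, h4⟩, h5⟩, h6⟩, h7⟩, h8⟩, h9⟩ := h
  exact ⟨h1, h2, h3, h4, eq_of_beq h5, eq_of_beq h6, eq_of_beq h7, eq_of_beq h8, fun r hr => all_range h9 hr⟩

theorem step {i : ℕ} (hi : i < 660) : ok (lM i) = true ∧ (∃ j < 660, dec (lM i) * dec genA = dec (lM j)) ∧
    ∃ j < 660, dec (lM i) * dec genB = dec (lM j) := by
  have h := all_range step_check hi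
  simp only [stepCheck, Bool.and_eq_true, decide_eq_true_eq] at h
  obtain ⟨h1, h2, h3, h4, h5⟩ := h
  exact ⟨h1, ⟨_, h2, by rw [← dec_mul h1 base.1, eq_of_beq h3]⟩,
    ⟨_, h4, by rw [← dec_mul h1 base.2.1, eq_of_beq h5]⟩⟩

theorem lM_mem : ∀ i < 660, dec (lM i) ∈ P := by
  intro i
  induction i using Nat.strong_induction_on with
  | _ i ih =>
    intro hi
    have h := all_range par_check hi
    simp only [parCheck, Bool.or_eq_true, Bool.and_eq_true, decide_eq_true_eq] at h
    rcases h with rfl | ⟨h1, h2⟩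
    · rw [base.2.2.2.2.1, dec_one]; exact one_mem _
    · have hj : getN parIdx i < 660 := by omega
      rw [← eq_of_beq h2, dec_mul (step hj).1 (by split <;> [exact base.1; exact base.2.1])]
      refine mul_mem (ih _ h1 hj) (Submonoid.subset_closure ?_)
      split <;> simp

theorem L_mul {i : ℕ} (hi : i < 660) {q : M7} (hq : q ∈ P) : ∃ j < 660, dec (lM i) * q = dec (lM j) := by
  suffices ∀ q ∈ P, ∀ i < 660, ∃ j < 660, dec (lM i) * q = dec (lM j) from this q hq i hi
  intro q hq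
  induction hq using Submonoid.closure_induction with
  | mem x hx =>
    intro i hi
    rcases hx with rfl | rfl
    · exact (step hi).2.1
    · exact (step hi).2.2
  | one => exact fun i hi => ⟨i, hi, mul_one _⟩
  | mul x y _ _ hx hy =>
    intro i hi
    obtain ⟨j, hj, e⟩ := hx i hi
    obtain ⟨l, hl, e'⟩ := hy j hj
    exact ⟨l, hl, by rw [← mul_assoc, e, e']⟩

theorem exists_inv {q : M7} (hq : q ∈ P) : ∃ q' ∈ P, q * q' = 1 ∧ q' * q = 1 := by
  have hA : dec genA * dec genA = 1 := by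
    rw [← dec_mul base.1 base.1, show mul genA genA = pw genA 2 from rfl, base.2.2.2.2.2.2.1, dec_one]
  have hB : dec genB * (dec genB * dec genB) = 1 := by
    rw [← mul_assoc, ← dec_mul base.2.1 base.2.1, ← dec_mul (ok_mul _ _) base.2.1,
      show mul (mul genB genB) genB = pw genB 3 from rfl, base.2.2.2.2.2.2.2.1, dec_one]
  induction hq using Submonoid.closure_induction with
  | mem x hx =>
    rcases hx with rfl | rfl
    · exact ⟨_, Submonoid.subset_closure (by simp), hA, hA⟩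
    · exact ⟨_, mul_mem (Submonoid.subset_closure (by simp)) (Submonoid.subset_closure (by simp)), hB,
        by rw [mul_assoc]; exact hB⟩
  | one => exact ⟨1, one_mem _, one_mul _, one_mul _⟩
  | mul x y _ _ hx hy =>
    obtain ⟨x', hx', e1, e2⟩ := hx
    obtain ⟨y', hy', f1, f2⟩ := hy
    refine ⟨y' * x', mul_mem hy' hx', ?_, ?_⟩
    · rw [mul_assoc, ← mul_assoc y, f1, one_mul, e1]
    · rw [mul_assoc, ← mul_assoc x', e2, one_mul, f2]

theorem coset {t : ℕ} (ht : t < 266) : ok (tM t) = true ∧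
    (∃ k < 660, ∃ t' < 266, dec (tM t) * dec genX = dec (lM k) * dec (tM t')) ∧
    ∃ k < 660, ∃ t' < 266, dec (tM t) * dec genY = dec (lM k) * dec (tM t') := by
  have hok : ∀ {t : ℕ}, t < 266 → ok (tM t) = true := fun {t} ht => by
    have h := all_range coset_check ht
    simp only [cosetCheck, Bool.and_eq_true] at h
    exact h.1
  have h := all_range coset_check ht
  simp only [cosetCheck, Bool.and_eq_true, decide_eq_true_eq] at h
  obtain ⟨h1, h2, h3, h4, h5, h6, h7⟩ := h
  exact ⟨h1, ⟨_, h3, _, h2, by rw [← dec_mul h1 base.2.2.1, eq_of_beq h4, dec_mul (step h3).1 (hok h2)]⟩,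
    ⟨_, h6, _, h5, by rw [← dec_mul h1 base.2.2.2.1, eq_of_beq h7, dec_mul (step h6).1 (hok h5)]⟩⟩

theorem mem_cover (g : GL (Fin 7) (ZMod 11)) (hg : g ∈ J1) :
    ∃ i < 660, ∃ t < 266, (g : M7) = dec (lM i) * dec (tM t) := by
  rw [J1, ← Subgroup.mem_toSubmonoid, Subgroup.closure_toSubmonoid_of_finite] at hg
  induction hg using Submonoid.closure_induction_right with
  | one => exact ⟨0, by norm_num, 0, by norm_num, by rw [base.2.2.2.2.1, base.2.2.2.2.2.1, dec_one, one_mul]; rfl⟩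
  | mul_right x _ y hy ih =>
    obtain ⟨i, hi, t, ht, e⟩ := ih
    have key : ∀ k < 660, ∀ t' < 266, ∀ s : M7, dec (tM t) * s = dec (lM k) * dec (tM t') →
        (x : M7) * s = dec (lM i) * dec (lM k) * dec (tM t') := fun k _ t' _ s hs => by
      rw [e, mul_assoc, hs, mul_assoc]
    rcases hy with rfl | rfl
    · obtain ⟨k, hk, t', ht', hs⟩ := (coset ht).2.1
      obtain ⟨j, hj, hjk⟩ := L_mul hi (lM_mem k hk)
      exact ⟨j, hj, t', ht', by rw [Units.val_mul, jankoX_val, key k hk t' ht' _ hs, hjk]⟩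
    · obtain ⟨k, hk, t', ht', hs⟩ := (coset ht).2.2
      obtain ⟨j, hj, hjk⟩ := L_mul hi (lM_mem k hk)
      exact ⟨j, hj, t', ht', by rw [Units.val_mul, jankoY_val, key k hk t' ht' _ hs, hjk]⟩

theorem rep_pow {r k : ℕ} (hr : r < 5) (hk : k < 660) :
    ∃ n ∈ [6, 7, 10, 11, 15, 19], (dec (lM k) * dec (rM r)) ^ n = 1 := by
  have h : ordCheck r k = true := by
    interval_cases r
    exacts [all_range ord_check0 hk, all_range ord_check1 hk, all_range ord_check2 hk,
      all_range ord_check3 hk, all_range ord_check4 hk]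
  simp only [ordCheck, Bool.and_eq_true, List.contains_iff_mem] at h
  refine ⟨_, h.1, ?_⟩
  have hn : getN (ordsAt r) k ∈ [2, 3, 5, 6, 7, 10, 11, 15, 19] := by
    have := h.1
    simp only [List.mem_cons, List.not_mem_nil, or_false] at this ⊢
    omega
  rw [← dec_mul (step hk).1 (base.2.2.2.2.2.2.2.2 r hr), ← dec_pw (ok_mul _ _) hn, eq_of_beq h.2, dec_one]

/-- Every element order of the smallest Janko group divides one of `6, 7, 10, 11, 15, 19`. -/
theorem orderOf_dvd (g : J1) : ∃ n ∈ [6, 7, 10, 11, 15, 19], orderOf g ∣ n := by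
  obtain ⟨i, hi, t, ht, e⟩ := mem_cover g g.2
  have h := all_range dc_check ht
  simp only [dcCheck, Bool.and_eq_true, decide_eq_true_eq] at h
  obtain ⟨h1, h2, h3, h4⟩ := h
  rw [eq_of_beq h4, dec_mul (ok_mul _ _) (step h3).1,
    dec_mul (step h1).1 (base.2.2.2.2.2.2.2.2 _ h2)] at e
  set a := dec (lM i)
  set b := dec (lM (getN dcL t))
  set u := dec (lM (getN dcR t))
  set d := dec (rM (getN dcRep t))
  obtain ⟨u', hu', hu1, hu2⟩ := exists_inv (lM_mem _ h3)
  obtain ⟨j, hj, hjk⟩ := L_mul h3 (mul_mem (lM_mem i hi) (lM_mem _ h1))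
  obtain ⟨n, hn, hpow⟩ := rep_pow h2 hj
  refine ⟨n, hn, orderOf_dvd_of_pow_eq_one (Subtype.ext (Units.ext ?_))⟩
  rw [SubmonoidClass.coe_pow, Units.val_pow_eq_pow_val]
  rw [OneMemClass.coe_one, Units.val_one]
  refine pow_eq_one_of_conj hu1 hu2 n ?_
  rw [conj_eq hu1 e, hjk]
  exact hpow

def evalWord : List Bool → Mat
  | [] => one
  | b :: l => mul (if b then genY else genX) (evalWord l)

theorem exists_word (l : List Bool) :
    ok (evalWord l) = true ∧ ∃ g : J1, ((g : GL (Fin 7) (ZMod 11)) : M7) = dec (evalWord l) := by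
  induction l with
  | nil => exact ⟨ok_one, 1, dec_one.symm⟩
  | cons b l ih =>
    obtain ⟨h1, g, hg⟩ := ih
    refine ⟨ok_mul _ _, ?_⟩
    cases b
    · refine ⟨⟨jankoX, Subgroup.subset_closure (by simp)⟩ * g, ?_⟩
      rw [Subgroup.coe_mul, Units.val_mul, hg, jankoX_val]
      exact (dec_mul base.2.2.1 h1).symm
    · refine ⟨⟨jankoY, Subgroup.subset_closure (by simp)⟩ * g, ?_⟩
      rw [Subgroup.coe_mul, Units.val_mul, hg, jankoY_val]
      exact (dec_mul base.2.2.2.1 h1).symm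

theorem word_checks :
    pw (evalWord word6) 6 = one ∧ dec (pw (evalWord word6) 2) ≠ 1 ∧ dec (pw (evalWord word6) 3) ≠ 1 ∧
    pw (evalWord word10) 10 = one ∧ dec (pw (evalWord word10) 2) ≠ 1 ∧ dec (pw (evalWord word10) 5) ≠ 1 ∧
    pw (evalWord word15) 15 = one ∧ dec (pw (evalWord word15) 3) ≠ 1 ∧ dec (pw (evalWord word15) 5) ≠ 1 ∧
    pw (evalWord word7) 7 = one ∧ dec (evalWord word7) ≠ 1 ∧
    pw (evalWord word11) 11 = one ∧ dec (evalWord word11) ≠ 1 ∧
    pw (evalWord word19) 19 = one ∧ dec (evalWord word19) ≠ 1 := by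
  have hb : ∀ A : Mat, beq A one = true → A = one := fun A h => eq_of_beq h
  refine ⟨hb _ ?_, ?_, ?_, hb _ ?_, ?_, ?_, hb _ ?_, ?_, ?_, hb _ ?_, ?_, hb _ ?_, ?_, hb _ ?_, ?_⟩ <;> decide +kernel

/-- An element of order `n` for `n = 6, 7, 10, 11, 15, 19`. -/
theorem exists_order {n : ℕ} (hn : n ∈ [6, 7, 10, 11, 15, 19]) : ∃ g : J1, orderOf g = n := by
  obtain ⟨w6, a2, a3, w10, b2, b5, w15, c3, c5, w7, d7, w11, e11, w19, f19⟩ := word_checks
  have key : ∀ (l : List Bool) (m : ℕ), m ∈ [2, 3, 5, 6, 7, 10, 11, 15, 19] → pw (evalWord l) m = one →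
      (∀ q : ℕ, q.Prime → q ∣ m → m / q = 1 ∧ dec (evalWord l) ≠ 1 ∨
        m / q ∈ [2, 3, 5, 6, 7, 10, 11, 15, 19] ∧ dec (pw (evalWord l) (m / q)) ≠ 1) →
      ∃ g : J1, orderOf g = m := by
    intro l m hm h1 h2
    obtain ⟨hok, g, hg⟩ := exists_word l
    refine ⟨g, orderOf_eq_of_pow_and_pow_div_prime (by
      simp only [List.mem_cons, List.not_mem_nil, or_false] at hm; omega) (Subtype.ext (Units.ext ?_)) ?_⟩
    · rw [SubmonoidClass.coe_pow, Units.val_pow_eq_pow_val, hg, ← dec_pw hok hm, h1, dec_one]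
      rfl
    · intro q hq hqm he
      have he' : dec (evalWord l) ^ (m / q) = 1 := by
        rw [← hg, ← Units.val_pow_eq_pow_val, ← SubmonoidClass.coe_pow, he]
        rfl
      rcases h2 q hq hqm with ⟨hd, hne⟩ | ⟨hd, hne⟩
      · rw [hd, pow_one] at he'; exact hne he'
      · rw [← dec_pw hok hd] at he'; exact hne he'
  have two : ∀ q : ℕ, q.Prime → ∀ {a b : ℕ}, a.Prime → b.Prime → q ∣ a * b → q = a ∨ q = b := fun q hq a b ha hb h =>
    ((hq.dvd_mul).1 h).imp (fun h => (Nat.prime_dvd_prime_iff_eq hq ha).1 h) fun h => (Nat.prime_dvd_prime_iff_eq hq hb).1 h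
  simp only [List.mem_cons, List.not_mem_nil, or_false] at hn
  rcases hn with rfl | rfl | rfl | rfl | rfl | rfl
  · refine key word6 6 (by simp) w6 fun q hq h => ?_
    rcases two q hq Nat.prime_two Nat.prime_three h with rfl | rfl
    · exact Or.inr ⟨by simp, a3⟩
    · exact Or.inr ⟨by simp, a2⟩
  · refine key word7 7 (by simp) w7 fun q hq h => ?_
    obtain rfl := (Nat.prime_dvd_prime_iff_eq hq (by norm_num)).1 h
    exact Or.inl ⟨rfl, d7⟩
  · refine key word10 10 (by simp) w10 fun q hq h => ?_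
    rcases two q hq Nat.prime_two Nat.prime_five h with rfl | rfl
    · exact Or.inr ⟨by simp, b5⟩
    · exact Or.inr ⟨by simp, b2⟩
  · refine key word11 11 (by simp) w11 fun q hq h => ?_
    obtain rfl := (Nat.prime_dvd_prime_iff_eq hq (by norm_num)).1 h
    exact Or.inl ⟨rfl, e11⟩
  · refine key word15 15 (by simp) w15 fun q hq h => ?_
    rcases two q hq Nat.prime_three Nat.prime_five h with rfl | rfl
    · exact Or.inr ⟨by simp, c5⟩
    · exact Or.inr ⟨by simp, c3⟩
  · refine key word19 19 (by simp) w19 fun q hq h => ?_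
    obtain rfl := (Nat.prime_dvd_prime_iff_eq hq (by norm_num)).1 h
    exact Or.inl ⟨rfl, f19⟩

end CfsgLib.J1
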