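import Cfsg.Agent.Lib.KnownA.J1Facts
import Cfsg.Agent.Lib.J1.OutData
import Cfsg.Agent.Lib.Sporadic.OutCert.Out

/-!
Every automorphism of the smallest Janko group is inner: an element of order 19, an element of order 6
normalising it and an involution commuting with the cube of that element.
-/

set_option autoImplicit false
set_option maxRecDepth 100000

namespace CfsgLib.J1.Out

open scoped Pointwise
open Cfsg Cfsg.Spor CfsgLib.J1.OutData CfsgLib.SmallGroups.J1Order CfsgLib.KnownA.J1Facts

/-- The product of a list of letters in the three elements. -/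
def letters (w : List ℕ) : Mat :=
  w.foldl (fun M s => mul M (if s = 0 then evalWord wa else if s = 1 then evalWord wn else evalWord wb)) one

/-- The matrix of a test. -/
def testM (m e j r : ℕ) (C : Mat) : Mat :=
  pw (mul (mul (aM.getD (e * m % 19) one) (nM.getD j one)) C) r

theorem pows_ok :
    (beq (aM.getD 0 one) one && ((List.range 18).all fun i =>
      beq (mul (aM.getD i one) (evalWord wa)) (aM.getD (i + 1) one)) &&
      beq (mul (aM.getD 18 one) (evalWord wa)) one && !beq (evalWord wa) one &&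
      beq (nM.getD 0 one) one && ((List.range 5).all fun i =>
      beq (mul (nM.getD i one) (evalWord wn)) (nM.getD (i + 1) one)) &&
      beq (mul (evalWord wn) (evalWord wa)) (mul (aM.getD 8 one) (evalWord wn)) &&
      beq (nM.getD 3 one) (evalWord wT) && beq bM (evalWord wb) &&
      beq (mul bM bM) one && beq (mul bM (nM.getD 3 one)) (mul (nM.getD 3 one) bM) &&
      beq (letters genXW) (evalWord [false]) && beq (letters genYW) (evalWord [true])) = true := by
  decide +kernel

theorem cent_ok :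
    (centM.length == 120 && centW.length == 120 && ((List.range 120).all fun i =>
      beq (centM.getD i one) (evalWord (centW.getD i [])) &&
        (beq (mul (centM.getD i one) (nM.getD 3 one)) (mul (nM.getD 3 one) (centM.getD i one)) &&
          (List.range i).all fun j => !beq (centM.getD i one) (centM.getD j one)))) = true := by
  decide +kernel

theorem tests_ok :
    ((tests.all fun t => [2, 3, 5, 6, 7, 10, 11, 15, 19].contains t.2.2 && beq (testM 1 t.1 t.2.1 t.2.2 bM) one) &&
      ((List.range 120).all fun i => [1, 2, 4].all fun m =>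
        !beq (mul (centM.getD i one) (centM.getD i one)) one || (Nat.beq m 1 && beq (centM.getD i one) bM) ||
          tests.any fun t => !beq (testM m t.1 t.2.1 t.2.2 (centM.getD i one)) one)) = true := by
  decide +kernel

theorem tests_small : ∀ t ∈ tests, t.2.1 < 6 := by decide +kernel

attribute [local irreducible] evalWord elt mul pw beq aM nM bM centM centW wa wn wb wT genXW genYW tests

/-- An element with the given matrix. -/
def Is (g : J1) (A : Mat) : Prop := ok A = true ∧ ((g : GL (Fin 7) (ZMod 11)) : M7) = dec A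

theorem Is.mk' {g : J1} {A B : Mat} (h : Is g A) (e : beq A B = true) : Is g B := eq_of_beq e ▸ h

theorem Is.inj {g h : J1} {A : Mat} (hg : Is g A) (hh : Is h A) : g = h :=
  Subtype.ext (Units.ext (hg.2.trans hh.2.symm))

theorem Is.beq {g : J1} {A B : Mat} (hA : Is g A) (hB : Is g B) : beq A B = true :=
  dec_inj hA.1 hB.1 (hA.2.symm.trans hB.2)

theorem is_one : Is 1 one := ⟨ok_one, dec_one.symm⟩

theorem Is.mul {g h : J1} {A B : Mat} (hg : Is g A) (hh : Is h B) : Is (g * h) (CfsgLib.J1.mul A B) :=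
  ⟨ok_mul A B, by rw [Subgroup.coe_mul, Units.val_mul, hg.2, hh.2, dec_mul hg.1 hh.1]⟩

theorem is_elt (l : List Bool) : Is (elt l) (evalWord l) := ⟨(exists_word l).1, elt_val l⟩

theorem is_pw {g : J1} {A : Mat} (h : Is g A) {r : ℕ} (hr : r ∈ [2, 3, 5, 6, 7, 10, 11, 15, 19]) :
    Is (g ^ r) (pw A r) := by
  refine ⟨?_, by rw [Subgroup.coe_pow, Units.val_pow_eq_pow_val, h.2, dec_pw h.1 hr]⟩
  simp only [List.mem_cons, List.not_mem_nil, or_false] at hr
  rcases hr with rfl | rfl | rfl | rfl | rfl | rfl | rfl | rfl | rfl <;>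
    simp [pw, pw.pw3, pw.pw5, ok_mul]

/-- The element of order 19. -/
noncomputable abbrev ea : J1 := elt wa

/-- The element of order 6. -/
noncomputable abbrev en : J1 := elt wn

/-- The involution. -/
noncomputable abbrev eb : J1 := elt wb

theorem facts19 : ea ^ 19 = 1 ∧ ea ≠ 1 ∧ en * ea = ea ^ 8 * en ∧ en ^ 3 = elt wT ∧ Is eb bM ∧
    eb * eb = 1 ∧ Commute eb (elt wT) ∧ (∀ i < 19, Is (ea ^ i) (aM.getD i one)) ∧
    ∀ i < 6, Is (en ^ i) (nM.getD i one) := by
  have h := pows_ok
  simp only [Bool.and_eq_true, Bool.not_eq_true', List.all_eq_true, List.mem_range] at h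
  obtain ⟨⟨⟨⟨⟨⟨⟨⟨⟨⟨⟨⟨a0, astep⟩, alast⟩, ane⟩, n0⟩, nstep⟩, rel⟩, n3⟩, hb⟩, hb2⟩, hbc⟩, -⟩, -⟩ := h
  have ha : ∀ i < 19, Is (ea ^ i) (aM.getD i one) := by
    intro i hi
    induction i with
    | zero => rw [pow_zero, eq_of_beq a0]; exact is_one
    | succ i ih =>
      rw [pow_succ]
      exact ((ih (by omega)).mul (is_elt wa)).mk' (astep i (by omega))
  have hn : ∀ i < 6, Is (en ^ i) (nM.getD i one) := by
    intro i hi
    induction i with
    | zero => rw [pow_zero, eq_of_beq n0]; exact is_one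
    | succ i ih =>
      rw [pow_succ]
      exact ((ih (by omega)).mul (is_elt wn)).mk' (nstep i (by omega))
  have hT : en ^ 3 = elt wT := ((hn 3 (by omega)).mk' n3).inj (is_elt wT)
  have hbI : Is eb bM := (eq_of_beq hb).symm ▸ is_elt wb
  refine ⟨?_, fun e => ?_, ?_, hT, hbI, ((hbI.mul hbI).mk' hb2).inj is_one, ?_, ha, hn⟩
  · rw [pow_succ]
    exact (((ha 18 (by omega)).mul (is_elt wa)).mk' alast).inj is_one
  · have := (is_elt wa).beq (show Is ea one from e ▸ is_one)
    rw [ane] at this
    exact Bool.noConfusion this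
  · exact (((is_elt wn).mul (is_elt wa)).mk' rel).inj ((ha 8 (by omega)).mul (is_elt wn))
  · rw [← hT]
    exact ((hbI.mul (hn 3 (by omega))).mk' hbc).inj ((hn 3 (by omega)).mul hbI)

theorem orderOf_ea : orderOf ea = 19 := by
  haveI : Fact (Nat.Prime 19) := ⟨by norm_num⟩
  exact orderOf_eq_prime facts19.1 facts19.2.1

theorem cent_ea {c : J1} (h : Commute c ea) : ∃ i : ℕ, c = ea ^ i := by
  have := finite_J1
  haveI : Fact (Nat.Prime 19) := ⟨by norm_num⟩
  set C := Subgroup.centralizer ({ea} : Set J1)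
  have hle : Subgroup.zpowers ea ≤ C :=
    Subgroup.zpowers_le.2 (Subgroup.mem_centralizer_singleton_iff.2 rfl)
  have hp : IsPGroup 19 C := by
    refine IsPGroup.of_card (n := (Nat.card C).primeFactorsList.length) (Nat.eq_prime_pow_of_unique_prime_dvd
      Nat.card_pos.ne' fun {q} hq hdvd => ?_)
    by_contra hne
    haveI : Fact q.Prime := ⟨hq⟩
    obtain ⟨x, hx⟩ := exists_prime_orderOf_dvd_card' q hdvd
    rw [← orderOf_injective C.subtype C.subtype_injective] at hx
    have hc : Commute (x : J1) ea := Subgroup.mem_centralizer_singleton_iff.1 x.2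
    have hco : Nat.Coprime (orderOf (x : J1)) (orderOf ea) := by
      rw [orderOf_ea]
      exact hx ▸ (Nat.coprime_primes hq (by norm_num)).2 hne
    have ho := hc.orderOf_mul_eq_mul_orderOf_of_coprime hco
    obtain ⟨n, hn, hdiv⟩ := orderOf_dvd ((x : J1) * ea)
    rw [ho, orderOf_ea] at hdiv
    have hq2 : 2 ≤ orderOf (x : J1) := hx ▸ hq.two_le
    simp only [List.mem_cons, List.not_mem_nil, or_false] at hn
    obtain ⟨d, hd⟩ := hdiv
    rcases hn with rfl | rfl | rfl | rfl | rfl | rfl <;>
      · rcases Nat.eq_zero_or_pos d with rfl | h0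
        · omega
        · nlinarith [Nat.mul_le_mul (Nat.mul_le_mul_right 19 hq2) h0]
  obtain ⟨k, hk⟩ := IsPGroup.iff_card.1 hp
  have hk1 : k ≤ 1 := by
    by_contra hlt
    have hdvd : 19 ^ 2 ∣ Nat.card J1 :=
      ((Nat.pow_dvd_pow 19 (show 2 ≤ k by omega)).trans hk.symm.dvd).trans C.card_subgroup_dvd_card
    rw [card_J1] at hdvd
    norm_num at hdvd
  have heq : Subgroup.zpowers ea = C := by
    refine Subgroup.eq_of_le_of_card_ge hle ?_
    rw [hk, Nat.card_zpowers, orderOf_ea]
    exact (Nat.pow_le_pow_right (by norm_num) hk1).trans (by norm_num)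
  have hmem : c ∈ Subgroup.zpowers ea := heq ▸ Subgroup.mem_centralizer_singleton_iff.2 h
  obtain ⟨i, hi⟩ := mem_powers_iff_mem_zpowers.2 hmem
  exact ⟨i, hi.symm⟩

theorem one_zmod_two : (Multiplicative.ofAdd (1 : ZMod 2)).toAdd = 0 ↔ False := by decide

theorem isConj_wT {x : J1} (hx : orderOf x = 2) : IsConj (elt wT) x := by
  have := finite_J1
  haveI : Fact (Nat.Prime 2) := ⟨Nat.prime_two⟩
  obtain ⟨⟨hT2, hT1⟩, -, g, B, C, hB, hC, hgC, hTB, hTC, hBC, hB1, hC1, hTB1, hTC1, hBC1, hTBC1⟩ :=
    CfsgLib.KnownA.J1Facts.facts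
  set t := elt wT
  have hB2 : B * B = 1 := by
    rw [hB, show g * t * g⁻¹ * (g * t * g⁻¹) = g * (t * t) * g⁻¹ by group, hT2]; group
  have hC2 : C * C = 1 := by
    rw [hC, show g * B * g⁻¹ * (g * B * g⁻¹) = g * (B * B) * g⁻¹ by group, hB2]; group
  let f : Multiplicative (ZMod 2) × Multiplicative (ZMod 2) →* J1 :=
    MonoidHom.noncommCoprod (twoHom t hT2) (twoHom B hB2) fun i j => by
      simp only [twoHom, MonoidHom.coe_mk, OneHom.coe_mk]
      split_ifs <;> first | exact Commute.one_left _ | exact Commute.one_right _ | exact hTB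
  let F : (Multiplicative (ZMod 2) × Multiplicative (ZMod 2)) × Multiplicative (ZMod 2) →* J1 :=
    MonoidHom.noncommCoprod f (twoHom C hC2) fun i j => by
      obtain ⟨i, i'⟩ := i
      simp only [f, MonoidHom.noncommCoprod_apply, twoHom, MonoidHom.coe_mk, OneHom.coe_mk]
      split_ifs <;> simp [hTC, hBC, hTC.mul_left hBC]
  have hF : ∀ p, F p = 1 → p = 1 := by
    rintro ⟨⟨i, j⟩, k⟩ h
    simp only [F, f, MonoidHom.noncommCoprod_apply, twoHom, MonoidHom.coe_mk, OneHom.coe_mk] at h
    rcases zmod_two_cases i with rfl | rfl <;> rcases zmod_two_cases j with rfl | rfl <;>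
      rcases zmod_two_cases k with rfl | rfl <;> simp_all
  have hcard : Nat.card F.range = 2 ^ (Nat.card J1).factorization 2 := by
    rw [← Nat.card_congr (MonoidHom.ofInjective ((injective_iff_map_eq_one F).2 hF)).toEquiv, card_J1,
      ← Nat.primeFactorsList_count_eq]
    simp
  obtain ⟨P, hP⟩ := (IsPGroup.of_card (n := 1) (by rw [Nat.card_zpowers, hx, pow_one]) :
    IsPGroup 2 (Subgroup.zpowers x)).exists_le_sylow
  obtain ⟨c, hc⟩ := MulAction.exists_smul_eq J1 P (Sylow.ofCard F.range hcard)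
  have hmem : c * x * c⁻¹ ∈ F.range := by
    have h := congrArg (fun Q : Sylow 2 J1 => (Q : Subgroup J1)) hc
    simp only [Sylow.coe_subgroup_smul] at h
    change MulAut.conj c • (P : Subgroup J1) = F.range at h
    rw [← h]
    exact ⟨x, hP (Subgroup.mem_zpowers x), rfl⟩
  obtain ⟨⟨⟨i, j⟩, k⟩, hp⟩ := hmem
  refine IsConj.trans ?_ (isConj_iff.2 ⟨c⁻¹, by group⟩ : IsConj (c * x * c⁻¹) x)
  rw [← hp]
  have hne : F ((i, j), k) ≠ 1 := by
    rw [hp, Ne, conj_eq_one_iff]
    intro e
    rw [e, orderOf_one] at hx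
    omega
  have kB : IsConj t B := isConj_iff.2 ⟨g, hB.symm⟩
  have kC : IsConj t C := kB.trans (isConj_iff.2 ⟨g, hC.symm⟩)
  have step : ∀ {u : J1}, IsConj t u → IsConj t (g * u * g⁻¹) := fun hu => hu.trans (isConj_iff.2 ⟨g, rfl⟩)
  have gt : g * t * g⁻¹ = B := hB.symm
  have gB : g * B * g⁻¹ = C := hC.symm
  have kTC : IsConj t (t * C) := hgC ▸ step kC
  have kBTC : IsConj t (B * (t * C)) := by
    have := step kTC
    rwa [show g * (t * C) * g⁻¹ = g * t * g⁻¹ * (g * C * g⁻¹) by group, gt, hgC] at this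
  have kCB : IsConj t (C * B * (t * C)) := by
    have := step kBTC
    rwa [show g * (B * (t * C)) * g⁻¹ = g * B * g⁻¹ * (g * t * g⁻¹) * (g * C * g⁻¹) by group, gB, gt,
      hgC] at this
  have eBT : C * B * (t * C) = t * B := by
    rw [← hBC.eq, mul_assoc B C, ← mul_assoc C t, ← hTC.eq, mul_assoc t C, hC2, mul_one, hTB.eq]
  have kBC : IsConj t (B * C) := by
    have := step (eBT ▸ kCB)
    rwa [show g * (t * B) * g⁻¹ = g * t * g⁻¹ * (g * B * g⁻¹) by group, gt, gB] at this
  have kTBC : IsConj t (t * B * C) := by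
    rw [hTB.eq, mul_assoc]; exact kBTC
  have kTB : IsConj t (t * B) := eBT ▸ kCB
  simp only [F, f, MonoidHom.noncommCoprod_apply, twoHom, MonoidHom.coe_mk, OneHom.coe_mk] at hne ⊢
  rcases zmod_two_cases i with rfl | rfl <;> rcases zmod_two_cases j with rfl | rfl <;>
    rcases zmod_two_cases k with rfl | rfl <;>
    simp only [toAdd_one, one_zmod_two, if_true, if_false, one_mul, mul_one, ne_eq, not_true_eq_false] at hne ⊢ <;>
    first
      | exact IsConj.refl t
      | exact kB
      | exact kC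
      | exact kTC
      | exact kTB
      | exact kBC
      | exact kTBC

theorem cent_T {x : J1} (h : Commute x (elt wT)) : ∃ i < 120, Is x (centM.getD i one) := by
  have := finite_J1
  obtain ⟨t0, ht0, ⟨e⟩⟩ := CfsgLib.KnownA.J1Facts.involution_centralizer
  obtain ⟨c, hc⟩ := isConj_iff.1 (isConj_wT ht0)
  have h120 : Nat.card (Subgroup.centralizer ({elt wT} : Set J1)) = 120 := by
    have hmap : (Subgroup.centralizer ({elt wT} : Set J1)).map (MulAut.conj c).toMonoidHom =
        Subgroup.centralizer {t0} := by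
      rw [← hc]
      ext z
      constructor
      · rintro ⟨w, hw, rfl⟩
        rw [Subgroup.mem_centralizer_singleton_iff]
        have := congrArg (MulAut.conj c) (Subgroup.mem_centralizer_singleton_iff.1 hw)
        simpa using this
      · intro hz
        refine ⟨c⁻¹ * z * c, ?_, by simp [mul_assoc]⟩
        rw [SetLike.mem_coe, Subgroup.mem_centralizer_singleton_iff]
        have h1 := Subgroup.mem_centralizer_singleton_iff.1 hz
        calc c⁻¹ * z * c * elt wT = c⁻¹ * (z * (c * elt wT * c⁻¹)) * c := by group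
          _ = c⁻¹ * ((c * elt wT * c⁻¹) * z) * c := by rw [h1]
          _ = elt wT * (c⁻¹ * z * c) := by group
    rw [Nat.card_congr (((MulAut.conj c).subgroupMap _).trans (MulEquiv.subgroupCongr hmap)).toEquiv,
      Nat.card_congr e.toEquiv, Nat.card_prod, nat_card_alternatingGroup, Nat.card_fin]
    simp [Nat.card_eq_fintype_card]
    rfl
  obtain ⟨-, -, -, hT, -, -, -, -, hn⟩ := facts19
  have hcert := cent_ok
  simp only [Bool.and_eq_true, List.all_eq_true, List.mem_range, Bool.not_eq_true'] at hcert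
  have hIs : ∀ i : Fin 120, Is (elt (centW.getD i [])) (centM.getD i one) := fun i =>
    (eq_of_beq (hcert.2 i i.2).1).symm ▸ is_elt _
  let u : Fin 120 → Subgroup.centralizer ({elt wT} : Set J1) := fun i =>
    ⟨elt (centW.getD i []), by
      rw [Subgroup.mem_centralizer_singleton_iff, ← hT]
      exact (((hIs i).mul (hn 3 (by omega))).mk' (hcert.2 i i.2).2.1).inj ((hn 3 (by omega)).mul (hIs i))⟩
  have hu : Function.Injective u := by
    intro i j e
    have e' : elt (centW.getD i []) = elt (centW.getD j []) := congrArg Subtype.val e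
    rcases lt_trichotomy (i : ℕ) j with hlt | heq | hlt
    · have h1 := (hIs j).beq (show Is (elt (centW.getD j [])) (centM.getD i one) from e' ▸ hIs i)
      rw [(hcert.2 j j.2).2.2 i hlt] at h1
      exact Bool.noConfusion h1
    · exact Fin.ext heq
    · have h1 := (hIs i).beq (show Is (elt (centW.getD i [])) (centM.getD j one) from e'.symm ▸ hIs j)
      rw [(hcert.2 i i.2).2.2 j hlt] at h1
      exact Bool.noConfusion h1
  obtain ⟨i, hi⟩ := ((Nat.bijective_iff_injective_and_card u).2
    ⟨hu, by rw [Nat.card_fin, h120]⟩).2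
      ⟨x, Subgroup.mem_centralizer_singleton_iff.2 h⟩
  have hx : x = elt (centW.getD i []) := (congrArg Subtype.val hi).symm
  exact ⟨i, i.2, hx ▸ hIs i⟩

theorem closure_gen : Subgroup.closure ({ea, en, eb} : Set J1) = ⊤ := by
  set K := Subgroup.closure ({ea, en, eb} : Set J1)
  have hl : ∀ w : List ℕ, ∀ g M, g ∈ K → Is g M → ∃ y ∈ K, Is y (w.foldl (fun M s =>
      CfsgLib.J1.mul M (if s = 0 then evalWord wa else if s = 1 then evalWord wn else evalWord wb)) M) := by
    intro w
    induction w with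
    | nil => exact fun g M hg hM => ⟨g, hg, hM⟩
    | cons s w ih =>
      intro g M hg hM
      rw [List.foldl_cons]
      obtain ⟨z, hz, hzM⟩ : ∃ z ∈ K,
          Is z (if s = 0 then evalWord wa else if s = 1 then evalWord wn else evalWord wb) := by
        split_ifs
        · exact ⟨ea, Subgroup.subset_closure (by simp), is_elt _⟩
        · exact ⟨en, Subgroup.subset_closure (by simp), is_elt _⟩
        · exact ⟨eb, Subgroup.subset_closure (by simp), is_elt _⟩
      exact ih _ _ (mul_mem hg hz) (hM.mul hzM)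
  have h := pows_ok
  simp only [Bool.and_eq_true] at h
  have hmem : ∀ (w : List ℕ) (l : List Bool), beq (letters w) (evalWord l) = true → elt l ∈ K := fun w l hw => by
    obtain ⟨y, hy, hyI⟩ := hl w 1 one K.one_mem is_one
    exact ((hyI.mk' hw).inj (is_elt l)) ▸ hy
  have hsingle : ∀ (b : Bool), ((elt [b] : GL (Fin 7) (ZMod 11))) = if b then jankoY else jankoX := by
    intro b
    refine Units.ext ((elt_val [b]).trans ?_)
    rw [eval_cons, eval_nil]
    cases b <;> simp only [Bool.false_eq_true, if_false, if_true]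
    · rw [dec_mul base.2.2.1 ok_one, dec_one, mul_one, jankoX_val]
    · rw [dec_mul base.2.2.2.1 ok_one, dec_one, mul_one, jankoY_val]
  apply Subgroup.map_injective J1.subtype_injective
  refine le_antisymm (Subgroup.map_mono le_top) ?_
  rw [← MonoidHom.range_eq_map, Subgroup.range_subtype]
  refine (Subgroup.closure_le _).2 ?_
  rintro z (rfl | rfl)
  · exact ⟨elt [false], hmem genXW _ h.1.2, hsingle false⟩
  · exact ⟨elt [true], hmem genYW _ h.2, hsingle true⟩

theorem conj_en (i m : ℕ) : en ^ i * ea ^ m * (en ^ i)⁻¹ = ea ^ (m * 8 ^ i) := by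
  have h1 : MulAut.conj en ea = ea ^ 8 := by
    rw [MulAut.conj_apply, facts19.2.2.1, mul_inv_cancel_right]
  induction i generalizing m with
  | zero => simp
  | succ i ih =>
    calc en ^ (i + 1) * ea ^ m * (en ^ (i + 1))⁻¹
        = MulAut.conj en (en ^ i * ea ^ m * (en ^ i)⁻¹) := by rw [MulAut.conj_apply, pow_succ']; group
      _ = ea ^ (m * 8 ^ (i + 1)) := by rw [ih, map_pow, h1, ← pow_mul]; congr 1; ring

theorem exponents : ∀ j < 19, 0 < j → ∃ i < 6, j * 8 ^ i % 19 = 1 ∨ j * 8 ^ i % 19 = 2 ∨ j * 8 ^ i % 19 = 4 := by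
  decide +kernel

theorem inverses : ∀ m ∈ [1, 2, 4], ∃ q < 19, m * q % 19 = 1 := by decide +kernel

theorem shifts : ∀ i < 19, ∃ l < 19, (l * 8 ^ 5 + i) % 19 = l := by decide +kernel

theorem pow_ea_mod (k : ℕ) : ea ^ (k % 19) = ea ^ k := by rw [← orderOf_ea, pow_mod_orderOf]

theorem mem_inn (α : MulAut J1) : α ∈ Inn J1 := by
  have := finite_J1
  haveI : Fact (Nat.Prime 19) := ⟨by norm_num⟩
  obtain ⟨g, j, hj0, hj, hg⟩ := CfsgLib.Sporadic.OutCert.exists_conj_pow (p := 19) (G := J1)
    (by rw [card_J1]; norm_num) orderOf_ea ((MulEquiv.orderOf_eq α ea).trans orderOf_ea)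
  obtain ⟨k, -, hk⟩ := exponents j hj hj0
  obtain ⟨m, hm3, hm⟩ : ∃ m, m ∈ [1, 2, 4] ∧ (MulAut.conj (en ^ k * g) * α) ea = ea ^ m := by
    refine ⟨j * 8 ^ k % 19, by simpa using hk, ?_⟩
    rw [MulAut.mul_apply, MulAut.conj_apply, pow_ea_mod, ← conj_en k j, ← hg]
    group
  have hin : ∀ β : J1, (MulAut.conj β * α) ∈ Inn J1 → α ∈ Inn J1 := by
    intro β h
    have := mul_mem (inv_mem (show MulAut.conj β ∈ Inn J1 from ⟨β, rfl⟩)) h
    rwa [inv_mul_cancel_left] at this
  refine hin (en ^ k * g) ?_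
  generalize MulAut.conj (en ^ k * g) * α = δ at hm
  clear hg hk hj0 hj hin g j k α
  obtain ⟨ha19, -, hrel, hT, hbI, hb2, hbT, haI, hnI⟩ := facts19
  obtain ⟨i, hi19, hi⟩ : ∃ i < 19, δ en = en * ea ^ i := by
    obtain ⟨q, -, hq⟩ := inverses m hm3
    have hc : Commute (en⁻¹ * δ en) ea := by
      have h8 : δ en * ea ^ m = ea ^ (m * 8) * δ en := by
        have := congrArg δ hrel
        rw [map_mul, map_mul, map_pow, hm, ← pow_mul] at this
        exact this
      have h4 : en * ea ^ m = ea ^ (m * 8) * en := by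
        have h1 := conj_en 1 m
        rw [pow_one, pow_one] at h1
        exact mul_inv_eq_iff_eq_mul.1 h1
      have hc : Commute (en⁻¹ * δ en) (ea ^ m) := by
        have h6 : en⁻¹ * ea ^ (m * 8) = ea ^ m * en⁻¹ := by
          rw [eq_mul_inv_iff_mul_eq, mul_assoc, ← h4, inv_mul_cancel_left]
        show en⁻¹ * δ en * ea ^ m = ea ^ m * (en⁻¹ * δ en)
        rw [mul_assoc, h8, ← mul_assoc, h6, mul_assoc]
      have := hc.pow_right q
      rwa [← pow_mul, ← pow_ea_mod, hq, pow_one] at this
    obtain ⟨i, hi⟩ := cent_ea hc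
    exact ⟨i % 19, Nat.mod_lt _ (by norm_num), by rw [pow_ea_mod, ← hi, mul_inv_cancel_left]⟩
  obtain ⟨l, -, hl⟩ := shifts i hi19
  let ε := MulAut.conj (ea ^ l) * δ
  have eA : ε ea = ea ^ m := by
    rw [MulAut.mul_apply, hm, MulAut.conj_apply, ← pow_add, add_comm, pow_add, mul_inv_cancel_right]
  have en6 : en ^ 6 = 1 := by
    rw [show 6 = 3 * 2 by norm_num, pow_mul, hT, pow_two]
    exact CfsgLib.KnownA.J1Facts.facts.1.1
  have eN : ε en = en := by
    have hswap : ea ^ l * en = en * ea ^ (l * 8 ^ 5) := by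
      have h5 : (en ^ 5)⁻¹ = en := inv_eq_of_mul_eq_one_right (by rw [← pow_succ]; exact en6)
      have h := conj_en 5 l
      rw [h5, show en ^ 5 = en⁻¹ from eq_inv_of_mul_eq_one_left (by rw [← pow_succ]; exact en6)] at h
      rw [← h]
      group
    rw [MulAut.mul_apply, hi, MulAut.conj_apply, ← mul_assoc, hswap, mul_assoc en, ← pow_add, ← pow_ea_mod,
      hl, mul_inv_cancel_right]
  obtain ⟨c, hc, hcI⟩ : ∃ c < 120, Is (ε eb) (centM.getD c one) := by
    refine cent_T ?_
    have := hbT.map ε.toMonoidHom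
    rw [MulEquiv.coe_toMonoidHom, ← hT, map_pow, eN, hT] at this
    exact this
  have htests := tests_ok
  simp only [Bool.and_eq_true, List.all_eq_true, List.mem_range] at htests
  have h := htests.2 c hc m hm3
  have hsq : beq (mul (centM.getD c one) (centM.getD c one)) one = true :=
    (hcI.mul hcI).beq (show Is (ε eb * ε eb) one by rw [← map_mul, hb2, map_one]; exact is_one)
  rw [hsq, Bool.not_true, Bool.false_or, Bool.or_eq_true] at h
  rcases h with h | h
  · simp only [Bool.and_eq_true, Nat.beq_eq] at h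
    obtain ⟨rfl, hcb⟩ := h
    rw [pow_one] at eA
    have eB : ε eb = eb := (hcI.mk' hcb).inj hbI
    have hε : ε = 1 := by
      have h : Set.EqOn ε.toMonoidHom (MonoidHom.id J1) ({ea, en, eb} : Set J1) := by
        rintro x (rfl | rfl | rfl)
        · exact eA
        · exact eN
        · exact eB
      exact MulEquiv.ext fun x => DFunLike.congr_fun (MonoidHom.eq_of_eqOn_dense closure_gen h) x
    rw [show δ = (MulAut.conj (ea ^ l))⁻¹ from eq_inv_of_mul_eq_one_right hε]
    exact inv_mem ⟨_, rfl⟩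
  · exfalso
    obtain ⟨t, ht, htf⟩ := List.any_eq_true.1 h
    obtain ⟨hr, hone⟩ := htests.1 t ht
    rw [List.contains_iff_mem] at hr
    have hj6 : t.2.1 < 6 := tests_small t ht
    have h1 : (ea ^ (t.1 * 1 % 19) * en ^ t.2.1 * eb) ^ t.2.2 = 1 :=
      ((is_pw (((haI _ (Nat.mod_lt _ (by norm_num))).mul (hnI _ hj6)).mul hbI) hr).mk' hone).inj is_one
    rw [mul_one, pow_ea_mod] at h1
    have h2 := congrArg ε h1
    rw [map_pow, map_mul, map_mul, map_pow, map_pow, eA, eN, map_one, ← pow_mul,
      mul_comm m, ← pow_ea_mod] at h2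
    have h3 := (is_pw (((haI _ (Nat.mod_lt _ (by norm_num))).mul (hnI _ hj6)).mul hcI) hr).beq
      (show Is _ one from h2.symm ▸ is_one)
    rw [show testM m t.1 t.2.1 t.2.2 (centM.getD c one) = pw (mul (mul (aM.getD (t.1 * m % 19) one)
      (nM.getD t.2.1 one)) (centM.getD c one)) t.2.2 from rfl, h3] at htf
    exact Bool.noConfusion htf

theorem card_out : Nat.card (Cfsg.Out J1) = 1 := by
  have : Subsingleton (Cfsg.Out J1) := ⟨fun x y => by
    obtain ⟨α, rfl⟩ := QuotientGroup.mk_surjective x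
    obtain ⟨β, rfl⟩ := QuotientGroup.mk_surjective y
    exact ((QuotientGroup.eq_one_iff α).2 (mem_inn α)).trans ((QuotientGroup.eq_one_iff β).2 (mem_inn β)).symm⟩
  exact Nat.card_unique

end CfsgLib.J1.Out
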