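/-
7 × 7 matrices over the integers modulo 11 with rows packed in natural numbers (16 bits an entry),
for kernel evaluation in the smallest Janko group.
-/
import Mathlib.LinearAlgebra.Matrix.Notation
import Mathlib.Data.ZMod.Basic

set_option autoImplicit false

namespace CfsgLib.J1

def dig (v : ℕ) : ℕ → ℕ
  | 0 => v % 65536
  | 1 => v / 65536 % 65536
  | 2 => v / 4294967296 % 65536
  | 3 => v / 281474976710656 % 65536
  | 4 => v / 18446744073709551616 % 65536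
  | 5 => v / 1208925819614629174706176 % 65536
  | _ => v / 79228162514264337593543950336 % 65536

def pack (c0 c1 c2 c3 c4 c5 c6 : ℕ) : ℕ :=
  c0 + c1 * 65536 + c2 * 4294967296 + c3 * 281474976710656 + c4 * 18446744073709551616 +
    c5 * 1208925819614629174706176 + c6 * 79228162514264337593543950336

def red (v : ℕ) : ℕ :=
  pack (dig v 0 % 11) (dig v 1 % 11) (dig v 2 % 11) (dig v 3 % 11) (dig v 4 % 11) (dig v 5 % 11) (dig v 6 % 11)

structure Mat where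
  r0 : ℕ
  r1 : ℕ
  r2 : ℕ
  r3 : ℕ
  r4 : ℕ
  r5 : ℕ
  r6 : ℕ

def rowMul (v : ℕ) (M : Mat) : ℕ :=
  red (dig v 0 * M.r0 + dig v 1 * M.r1 + dig v 2 * M.r2 + dig v 3 * M.r3 + dig v 4 * M.r4 +
    dig v 5 * M.r5 + dig v 6 * M.r6)

def mul (A M : Mat) : Mat :=
  ⟨rowMul A.r0 M, rowMul A.r1 M, rowMul A.r2 M, rowMul A.r3 M, rowMul A.r4 M, rowMul A.r5 M, rowMul A.r6 M⟩

def beq (A M : Mat) : Bool :=
  Nat.beq A.r0 M.r0 && Nat.beq A.r1 M.r1 && Nat.beq A.r2 M.r2 && Nat.beq A.r3 M.r3 && Nat.beq A.r4 M.r4 &&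
    Nat.beq A.r5 M.r5 && Nat.beq A.r6 M.r6

def okRow (v : ℕ) : Bool := Nat.beq (red v) v

def ok (A : Mat) : Bool :=
  okRow A.r0 && okRow A.r1 && okRow A.r2 && okRow A.r3 && okRow A.r4 && okRow A.r5 && okRow A.r6

def one : Mat :=
  ⟨pack 1 0 0 0 0 0 0, pack 0 1 0 0 0 0 0, pack 0 0 1 0 0 0 0, pack 0 0 0 1 0 0 0, pack 0 0 0 0 1 0 0,
    pack 0 0 0 0 0 1 0, pack 0 0 0 0 0 0 1⟩

/-- `M` raised to the listed exponent (`one` for the others). -/
def pw (M : Mat) : ℕ → Mat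
  | 2 => mul M M
  | 3 => mul (mul M M) M
  | 5 => mul (mul (mul M M) (mul M M)) M
  | 6 => pw3 (mul M M)
  | 7 => mul (pw3 (mul M M)) M
  | 10 => pw5 (mul M M)
  | 11 => mul (pw5 (mul M M)) M
  | 15 => pw5 (pw3 M)
  | 19 => mul (pw3 (pw3 (mul M M))) M
  | _ => M
where
  pw3 (N : Mat) : Mat := mul (mul N N) N
  pw5 (N : Mat) : Mat := mul (mul (mul N N) (mul N N)) N

theorem dig_pack {c0 c1 c2 c3 c4 c5 c6 : ℕ} (h0 : c0 < 65536) (h1 : c1 < 65536) (h2 : c2 < 65536)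
    (h3 : c3 < 65536) (h4 : c4 < 65536) (h5 : c5 < 65536) (h6 : c6 < 65536) :
    dig (pack c0 c1 c2 c3 c4 c5 c6) 0 = c0 ∧ dig (pack c0 c1 c2 c3 c4 c5 c6) 1 = c1 ∧
    dig (pack c0 c1 c2 c3 c4 c5 c6) 2 = c2 ∧ dig (pack c0 c1 c2 c3 c4 c5 c6) 3 = c3 ∧
    dig (pack c0 c1 c2 c3 c4 c5 c6) 4 = c4 ∧ dig (pack c0 c1 c2 c3 c4 c5 c6) 5 = c5 ∧
    dig (pack c0 c1 c2 c3 c4 c5 c6) 6 = c6 := by
  simp only [dig, pack]
  refine ⟨?_, ?_, ?_, ?_, ?_, ?_, ?_⟩ <;> omega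

/-- The entry function of a packed matrix. -/
def row (A : Mat) : Fin 7 → ℕ := ![A.r0, A.r1, A.r2, A.r3, A.r4, A.r5, A.r6]

def dec (A : Mat) : Matrix (Fin 7) (Fin 7) (ZMod 11) := fun i j => ((dig (row A i) j : ℕ) : ZMod 11)

theorem dig_red (v : ℕ) (j : Fin 7) : dig (red v) j = dig v j % 11 := by
  obtain ⟨h0, h1, h2, h3, h4, h5, h6⟩ := dig_pack (c0 := dig v 0 % 11) (c1 := dig v 1 % 11) (c2 := dig v 2 % 11)
    (c3 := dig v 3 % 11) (c4 := dig v 4 % 11) (c5 := dig v 5 % 11) (c6 := dig v 6 % 11)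
    (by omega) (by omega) (by omega) (by omega) (by omega) (by omega) (by omega)
  fin_cases j <;> assumption

theorem red_red (v : ℕ) : red (red v) = red v := by
  obtain ⟨h0, h1, h2, h3, h4, h5, h6⟩ := dig_pack (c0 := dig v 0 % 11) (c1 := dig v 1 % 11) (c2 := dig v 2 % 11)
    (c3 := dig v 3 % 11) (c4 := dig v 4 % 11) (c5 := dig v 5 % 11) (c6 := dig v 6 % 11)
    (by omega) (by omega) (by omega) (by omega) (by omega) (by omega) (by omega)
  show pack (dig (red v) 0 % 11) (dig (red v) 1 % 11) (dig (red v) 2 % 11) (dig (red v) 3 % 11)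
    (dig (red v) 4 % 11) (dig (red v) 5 % 11) (dig (red v) 6 % 11) = red v
  unfold red
  rw [h0, h1, h2, h3, h4, h5, h6]
  simp only [Nat.mod_mod]

theorem ok_iff {A : Mat} : ok A = true ↔ ∀ i, red (row A i) = row A i := by
  simp only [ok, okRow, Bool.and_eq_true, Nat.beq_eq]
  constructor
  · rintro ⟨⟨⟨⟨⟨⟨h0, h1⟩, h2⟩, h3⟩, h4⟩, h5⟩, h6⟩ i
    fin_cases i <;> assumption
  · intro h
    exact ⟨⟨⟨⟨⟨⟨h 0, h 1⟩, h 2⟩, h 3⟩, h 4⟩, h 5⟩, h 6⟩

theorem eq_of_beq {A M : Mat} (h : beq A M = true) : A = M := by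
  obtain ⟨a0, a1, a2, a3, a4, a5, a6⟩ := A
  obtain ⟨m0, m1, m2, m3, m4, m5, m6⟩ := M
  simp only [beq, Bool.and_eq_true, Nat.beq_eq] at h
  obtain ⟨⟨⟨⟨⟨⟨h0, h1⟩, h2⟩, h3⟩, h4⟩, h5⟩, h6⟩ := h
  subst h0 h1 h2 h3 h4 h5 h6
  rfl

theorem row_map (f : ℕ → ℕ) (A : Mat) (i : Fin 7) :
    row ⟨f A.r0, f A.r1, f A.r2, f A.r3, f A.r4, f A.r5, f A.r6⟩ i = f (row A i) := by
  fin_cases i <;> rfl

theorem row_mul (A M : Mat) (i : Fin 7) : row (mul A M) i = rowMul (row A i) M :=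
  row_map (fun v => rowMul v M) A i

theorem ok_mul (A M : Mat) : ok (mul A M) = true := ok_iff.2 fun i => by
  rw [row_mul, rowMul, red_red]

theorem row_eq {A : Mat} (hA : ok A = true) (i : Fin 7) :
    row A i = pack (dig (row A i) 0) (dig (row A i) 1) (dig (row A i) 2) (dig (row A i) 3) (dig (row A i) 4)
      (dig (row A i) 5) (dig (row A i) 6) ∧ ∀ j : Fin 7, dig (row A i) j < 11 := by
  have h := ok_iff.1 hA i
  have h' : ∀ j : Fin 7, dig (row A i) j % 11 = dig (row A i) j := fun j => by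
    rw [← dig_red, h]
  refine ⟨?_, fun j => by have := h' j; omega⟩
  conv_lhs => rw [← h, red]
  have e0 := h' 0; have e1 := h' 1; have e2 := h' 2; have e3 := h' 3
  have e4 := h' 4; have e5 := h' 5; have e6 := h' 6
  simp only [Fin.val_zero, Fin.val_one, Fin.val_two] at e0 e1 e2
  rw [show ((3 : Fin 7) : ℕ) = 3 from rfl] at e3
  rw [show ((4 : Fin 7) : ℕ) = 4 from rfl] at e4
  rw [show ((5 : Fin 7) : ℕ) = 5 from rfl] at e5
  rw [show ((6 : Fin 7) : ℕ) = 6 from rfl] at e6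
  rw [e0, e1, e2, e3, e4, e5, e6]

theorem rowMul_dig {A M : Mat} (hA : ok A = true) (hM : ok M = true) (i j : Fin 7) :
    dig (rowMul (row A i) M) j = (∑ k : Fin 7, dig (row A i) k * dig (row M k) j) % 11 := by
  rw [rowMul, dig_red]
  congr 1
  obtain ⟨-, ha⟩ := row_eq hA i
  have hb := fun k => row_eq hM k
  set S : Fin 7 → ℕ := fun j => ∑ k : Fin 7, dig (row A i) k * dig (row M k) j with hS
  have hlt : ∀ j, S j < 65536 := fun j => by
    have : S j ≤ ∑ _k : Fin 7, 10 * 10 :=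
      Finset.sum_le_sum fun k _ => Nat.mul_le_mul (by have := ha k; omega) (by have := (hb k).2 j; omega)
    simp at this
    omega
  obtain ⟨h0, h1, h2, h3, h4, h5, h6⟩ := dig_pack (hlt 0) (hlt 1) (hlt 2) (hlt 3) (hlt 4) (hlt 5) (hlt 6)
  have e : dig (row A i) 0 * M.r0 + dig (row A i) 1 * M.r1 + dig (row A i) 2 * M.r2 + dig (row A i) 3 * M.r3 +
      dig (row A i) 4 * M.r4 + dig (row A i) 5 * M.r5 + dig (row A i) 6 * M.r6 =
      pack (S 0) (S 1) (S 2) (S 3) (S 4) (S 5) (S 6) := by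
    conv_lhs => rw [show M.r0 = row M 0 from rfl, show M.r1 = row M 1 from rfl, show M.r2 = row M 2 from rfl,
      show M.r3 = row M 3 from rfl, show M.r4 = row M 4 from rfl, show M.r5 = row M 5 from rfl,
      show M.r6 = row M 6 from rfl, (hb 0).1, (hb 1).1, (hb 2).1, (hb 3).1, (hb 4).1, (hb 5).1, (hb 6).1]
    simp only [hS, Fin.sum_univ_seven, pack, Fin.val_zero, Fin.val_one, Fin.val_two,
      show ((3 : Fin 7) : ℕ) = 3 from rfl, show ((4 : Fin 7) : ℕ) = 4 from rfl,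
      show ((5 : Fin 7) : ℕ) = 5 from rfl, show ((6 : Fin 7) : ℕ) = 6 from rfl]
    ring
  rw [e]
  fin_cases j <;> assumption

theorem dec_apply (A : Mat) (i j : Fin 7) : dec A i j = ((dig (row A i) j : ℕ) : ZMod 11) := rfl

theorem dec_mul {A M : Mat} (hA : ok A = true) (hM : ok M = true) : dec (mul A M) = dec A * dec M := by
  ext i j
  rw [Matrix.mul_apply, dec_apply, row_mul, rowMul_dig hA hM, ZMod.natCast_mod, Nat.cast_sum]
  simp only [Nat.cast_mul, dec_apply]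

theorem dec_one : dec one = 1 := by decide

theorem ok_one : ok one = true := by decide

theorem dec_pw {M : Mat} (hM : ok M = true) {n : ℕ} (hn : n ∈ [2, 3, 5, 6, 7, 10, 11, 15, 19]) :
    dec (pw M n) = dec M ^ n := by
  simp only [List.mem_cons, List.not_mem_nil, or_false] at hn
  rcases hn with rfl | rfl | rfl | rfl | rfl | rfl | rfl | rfl | rfl <;>
    simp only [pw, pw.pw3, pw.pw5, dec_mul, ok_mul, hM, ← mul_assoc, pow_succ, pow_zero, one_mul]

end CfsgLib.J1
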